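import Mathlib

/-! The Jacobian criterion of formal smoothness at a prime and its spreading out. -/

universe u

open TensorProduct Algebra

namespace Groth.Agent.FSLocLib

variable {A C : Type u} [CommRing A] [CommRing C] [Algebra A C] (P : Algebra.Extension.{u} A C)
  (p : Ideal C) [p.IsPrime]

set_option backward.isDefEq.respectTransparency false in
/-- If `C_p` is formally smooth, maps on the conormal module into `κ(p)`-spaces extend to the cotangent space. -/
theorem exists_extend [Algebra.FormallySmooth A P.Ring] [Algebra.FormallySmooth A (Localization.AtPrime p)]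
    {V : Type u} [AddCommGroup V] [Module C V] [Module p.ResidueField V] [IsScalarTower C p.ResidueField V]
    (g : P.Cotangent →ₗ[C] V) : ∃ L : P.CotangentSpace →ₗ[C] V, ∀ m, L (P.cotangentComplex m) = g m := by
  let S := p.primeCompl
  let Cp := Localization.AtPrime p
  let iS : LocalizedModule S P.Cotangent →ₗ[Cp] LocalizedModule S P.CotangentSpace :=
    (IsLocalizedModule.map S (LocalizedModule.mkLinearMap S P.Cotangent) (LocalizedModule.mkLinearMap S P.CotangentSpace)
      P.cotangentComplex).extendScalarsOfIsLocalization S Cp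
  let qS : LocalizedModule S P.CotangentSpace →ₗ[Cp] Ω[Cp⁄A] :=
    (IsLocalizedModule.map S (LocalizedModule.mkLinearMap S P.CotangentSpace) (KaehlerDifferential.map A A C Cp)
      P.toKaehler).extendScalarsOfIsLocalization S Cp
  have hex : Function.Exact iS qS := IsLocalizedModule.map_exact S (LocalizedModule.mkLinearMap S P.Cotangent)
    (LocalizedModule.mkLinearMap S P.CotangentSpace) (KaehlerDifferential.map A A C Cp)
    P.cotangentComplex P.toKaehler P.exact_cotangentComplex_toKaehler
  have hsurj : Function.Surjective qS := IsLocalizedModule.map_surjective S (LocalizedModule.mkLinearMap S P.CotangentSpace)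
    (KaehlerDifferential.map A A C Cp) P.toKaehler P.toKaehler_surjective
  have hinj : Function.Injective iS := by
    refine (injective_iff_map_eq_zero _).mpr fun x hx => ?_
    induction x using LocalizedModule.induction_on with
    | h m s =>
      have hx' : LocalizedModule.mk (P.cotangentComplex m) s = 0 := by
        rw [← hx]
        show _ = IsLocalizedModule.map S (LocalizedModule.mkLinearMap S P.Cotangent)
          (LocalizedModule.mkLinearMap S P.CotangentSpace) P.cotangentComplex (LocalizedModule.mk m s)
        rw [IsLocalizedModule.map_LocalizedModules]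
      rw [← LocalizedModule.zero_mk s, LocalizedModule.mk_eq] at hx'
      obtain ⟨t, ht⟩ := hx'
      simp only [smul_zero] at ht
      have hts : ((t * s : S) : C) • P.cotangentComplex m = 0 := by
        rw [Submonoid.coe_mul, mul_smul]
        exact ht
      rw [← map_smul] at hts
      let e := Algebra.Extension.equivH1CotangentOfFormallySmooth P
      let h : P.H1Cotangent := ⟨((t * s : S) : C) • m, hts⟩
      have h0 : Algebra.H1Cotangent.map A A C Cp (e h) = Algebra.H1Cotangent.map A A C Cp 0 := Subsingleton.elim _ _
      obtain ⟨c, hc⟩ := (IsLocalizedModule.eq_iff_exists S (Algebra.H1Cotangent.map A A C Cp)).mp h0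
      rw [smul_zero] at hc
      have hc' : (c : C) • h = 0 := e.injective (by rw [map_smul, map_zero]; exact hc)
      have hc'' : (c : C) • ((t * s : S) : C) • m = 0 := congrArg Subtype.val hc'
      rw [← LocalizedModule.zero_mk s, LocalizedModule.mk_eq]
      refine ⟨c * (t * s), ?_⟩
      simp only [smul_zero]
      show ((c * (t * s) : S) : C) • ((s : C) • m) = 0
      rw [smul_comm, Submonoid.coe_mul, mul_smul, hc'', smul_zero]
  obtain ⟨σ, hσ⟩ := Module.projective_lifting_property qS LinearMap.id hsurj
  have hrange : ∀ y, y - σ (qS y) ∈ LinearMap.range iS := fun y => by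
    refine (hex _).mp ?_
    rw [map_sub, show qS (σ (qS y)) = qS y from LinearMap.congr_fun hσ (qS y), sub_self]
  let π : LocalizedModule S P.CotangentSpace →ₗ[Cp] LinearMap.range iS :=
    { toFun := fun y => ⟨y - σ (qS y), hrange y⟩
      map_add' := fun y z => Subtype.ext (by
        show y + z - σ (qS (y + z)) = (y - σ (qS y)) + (z - σ (qS z))
        rw [map_add, map_add]; abel)
      map_smul' := fun c y => Subtype.ext (by
        show c • y - σ (qS (c • y)) = c • (y - σ (qS y))
        rw [map_smul, map_smul, smul_sub]) }
  let l : LocalizedModule S P.CotangentSpace →ₗ[Cp] LocalizedModule S P.Cotangent :=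
    (LinearEquiv.ofInjective iS hinj).symm.toLinearMap ∘ₗ π
  have hl : l ∘ₗ iS = LinearMap.id := LinearMap.ext fun x => by
    show (LinearEquiv.ofInjective iS hinj).symm ⟨iS x - σ (qS (iS x)), hrange (iS x)⟩ = x
    rw [LinearEquiv.symm_apply_eq]
    refine Subtype.ext ?_
    show iS x - σ (qS (iS x)) = iS x
    rw [hex.apply_apply_eq_zero, map_zero]
    exact sub_zero (iS x)
  have hu : ∀ x : S, IsUnit ((algebraMap C (Module.End C V)) x) := fun x => by
    rw [Module.End.isUnit_iff]
    have hne : algebraMap C p.ResidueField x ≠ 0 := fun h => x.2 ((Ideal.algebraMap_residueField_eq_zero).mp h)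
    constructor
    · intro v w hvw
      have h2 : algebraMap C p.ResidueField x • v = algebraMap C p.ResidueField x • w := by
        rw [algebraMap_smul, algebraMap_smul]; exact hvw
      exact smul_right_injective V hne h2
    · intro v
      refine ⟨(algebraMap C p.ResidueField x)⁻¹ • v, ?_⟩
      show (x : C) • ((algebraMap C p.ResidueField x)⁻¹ • v) = v
      rw [← algebraMap_smul p.ResidueField (x : C), smul_smul, mul_inv_cancel₀ hne, one_smul]
  let Γ := IsLocalizedModule.lift S (LocalizedModule.mkLinearMap S P.Cotangent) g hu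
  refine ⟨Γ ∘ₗ l.restrictScalars C ∘ₗ LocalizedModule.mkLinearMap S P.CotangentSpace, fun m => ?_⟩
  have h1 : iS (LocalizedModule.mkLinearMap S P.Cotangent m) =
      LocalizedModule.mkLinearMap S P.CotangentSpace (P.cotangentComplex m) :=
    IsLocalizedModule.map_apply S _ _ _ m
  show Γ (l (LocalizedModule.mkLinearMap S P.CotangentSpace (P.cotangentComplex m))) = g m
  rw [← h1]
  have h2 : l (iS (LocalizedModule.mkLinearMap S P.Cotangent m)) = LocalizedModule.mkLinearMap S P.Cotangent m :=
    LinearMap.congr_fun hl _
  rw [h2, IsLocalizedModule.lift_apply]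

set_option backward.isDefEq.respectTransparency false in
/-- Injectivity modulo `p` gives a left inverse up to a multiplier outside `p`. -/
theorem exists_left_inverse [Module.Projective C P.CotangentSpace] [Module.Finite C P.Cotangent]
    {V W : Type u} [AddCommGroup V] [Module C V] [Module p.ResidueField V] [IsScalarTower C p.ResidueField V]
    [AddCommGroup W] [Module C W] [Module p.ResidueField W] [IsScalarTower C p.ResidueField W]
    (g : P.Cotangent →ₗ[C] V) (hg : Submodule.span p.ResidueField (Set.range g) = ⊤)
    (hgk : ∀ m, g m = 0 → (1 : p.ResidueField) ⊗ₜ[C] m = 0)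
    (h : P.CotangentSpace →ₗ[C] W) (ψ : V →ₗ[p.ResidueField] W) (hψ : Function.Injective ψ)
    (hcomm : ∀ m, ψ (g m) = h (P.cotangentComplex m)) :
    ∃ f : C, f ∉ p ∧ ∃ l : P.CotangentSpace →ₗ[C] P.Cotangent, ∀ m, l (P.cotangentComplex m) = f • m := by
  classical
  obtain ⟨b, hbsub, hbspan, hbli⟩ := exists_linearIndependent p.ResidueField (Set.range g)
  haveI : Module.Finite p.ResidueField V := by
    obtain ⟨G, hG⟩ := (Module.Finite.fg_top : (⊤ : Submodule C P.Cotangent).FG)
    refine ⟨G.image g, ?_⟩
    rw [_root_.eq_top_iff, ← hg, Submodule.span_le]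
    rintro _ ⟨m, rfl⟩
    have hm : m ∈ Submodule.span C (G : Set P.Cotangent) := hG ▸ trivial
    have := Submodule.mem_map_of_mem (f := g) hm
    rw [Submodule.map_span] at this
    rw [Finset.coe_image]
    exact Submodule.span_le_restrictScalars C p.ResidueField _ this
  haveI : Finite b := hbli.finite
  haveI := Fintype.ofFinite b
  choose mm hmm using fun a : b => hbsub a.2
  -- the images in `W` are independent; choose a free embedding and functionals
  obtain ⟨s, hs⟩ := Module.projective_def'.mp (inferInstance : Module.Projective C P.CotangentSpace)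
  let res : C →ₗ[C] p.ResidueField := Algebra.linearMap C p.ResidueField
  let Θ : P.CotangentSpace →ₗ[C] (P.CotangentSpace →₀ p.ResidueField) :=
    (Finsupp.mapRange.linearMap res) ∘ₗ s
  let back : (P.CotangentSpace →₀ p.ResidueField) →ₗ[p.ResidueField] W :=
    Finsupp.linearCombination p.ResidueField fun n => h n
  have hback : ∀ n, back (Θ n) = h n := fun n => by
    conv_rhs => rw [← LinearMap.id_apply (R := C) n, ← hs, LinearMap.comp_apply, Finsupp.linearCombination_apply,
      map_finsuppSum]
    simp only [back, Θ, LinearMap.comp_apply, Finsupp.mapRange.linearMap_apply, Finsupp.linearCombination_apply]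
    rw [Finsupp.sum_mapRange_index (fun x => zero_smul p.ResidueField (h x))]
    refine Finsupp.sum_congr fun x _ => ?_
    rw [map_smul, id_eq, ← algebraMap_smul p.ResidueField ((s n) x)]
    rfl
  let w : b → (P.CotangentSpace →₀ p.ResidueField) := fun a => Θ (P.cotangentComplex (mm a))
  have hw : LinearIndependent p.ResidueField w := by
    refine LinearIndependent.of_comp back ?_
    have : back ∘ w = ψ ∘ (Subtype.val : b → V) := funext fun a => by
      show back (Θ (P.cotangentComplex (mm a))) = ψ a
      rw [hback, ← hcomm, hmm]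
    rw [this]
    exact hbli.map' ψ (LinearMap.ker_eq_bot.mpr hψ)
  let T := Finsupp.linearCombination p.ResidueField w
  obtain ⟨Ti, hTi⟩ := T.exists_leftInverse_of_injective (LinearMap.ker_eq_bot.mpr hw)
  -- clear denominators on the finite support
  let J : Finset P.CotangentSpace := Finset.univ.biUnion fun a => (w a).support
  let co : J × b → p.ResidueField := fun x => Ti (Finsupp.single (x.1 : P.CotangentSpace) 1) x.2
  obtain ⟨d, hd⟩ := IsLocalization.exist_integer_multiples_of_finite (nonZeroDivisors (C ⧸ p)) co
  obtain ⟨d', hd'⟩ := Ideal.Quotient.mk_surjective (d : C ⧸ p)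
  choose cq hcq using hd
  choose c hc using fun x => Ideal.Quotient.mk_surjective (cq x)
  have hd0 : d' ∉ p := fun hh => nonZeroDivisors.ne_zero d.2 (by rw [← hd', Ideal.Quotient.eq_zero_iff_mem.mpr hh])
  have hco : ∀ x, algebraMap C p.ResidueField (c x) = algebraMap C p.ResidueField d' * co x := fun x => by
    rw [IsScalarTower.algebraMap_apply C (C ⧸ p) p.ResidueField, IsScalarTower.algebraMap_apply C (C ⧸ p) p.ResidueField,
      Ideal.Quotient.algebraMap_eq, hc, hd', hcq, Algebra.smul_def]
  let φ : P.CotangentSpace →ₗ[C] (b → C) :=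
    LinearMap.pi fun a => ∑ j : J, c (j, a) • ((Finsupp.lapply (j : P.CotangentSpace)) ∘ₗ s)
  let D : Matrix b b C := fun a a' => φ (P.cotangentComplex (mm a')) a
  have hD : ∀ a a', algebraMap C p.ResidueField (D a a') =
      algebraMap C p.ResidueField d' * (if a = a' then 1 else 0) := by
    intro a a'
    have h1 : Ti (w a') = Finsupp.single a' 1 := by
      have := LinearMap.congr_fun hTi (Finsupp.single a' 1)
      rw [LinearMap.comp_apply, LinearMap.id_apply] at this
      rw [← this]
      congr 1
      simp [T]
    have h2 : w a' = ∑ j : J, w a' (j : P.CotangentSpace) • Finsupp.single (j : P.CotangentSpace) (1 : p.ResidueField) := by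
      rw [Finset.sum_coe_sort J (fun j => w a' j • Finsupp.single j (1 : p.ResidueField))]
      simp only [Finsupp.smul_single, smul_eq_mul, mul_one]
      exact (Finsupp.sum_of_support_subset (w a') (Finset.subset_biUnion_of_mem (fun a => (w a).support)
        (Finset.mem_univ a')) (fun j x => Finsupp.single j x) (fun j _ => Finsupp.single_zero j)).symm.trans
        (Finsupp.sum_single (w a')) |>.symm
    show algebraMap C p.ResidueField ((∑ j : J, c (j, a) • ((Finsupp.lapply (j : P.CotangentSpace)) ∘ₗ s)) (P.cotangentComplex (mm a'))) = _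
    rw [LinearMap.sum_apply, map_sum]
    have h3 : Ti (w a') a = ∑ j : J, w a' (j : P.CotangentSpace) * co (j, a) := by
      conv_lhs => rw [h2, map_sum, Finsupp.finset_sum_apply]
      refine Finset.sum_congr rfl fun j _ => ?_
      rw [map_smul, Finsupp.smul_apply, smul_eq_mul]
    rw [h1, Finsupp.single_apply] at h3
    rw [show (if a = a' then (1 : p.ResidueField) else 0) = if a' = a then 1 else 0 by simp [eq_comm], h3, Finset.mul_sum]
    refine Finset.sum_congr rfl fun j _ => ?_
    show algebraMap C p.ResidueField (c (j, a) • s (P.cotangentComplex (mm a')) (j : P.CotangentSpace)) = _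
    rw [smul_eq_mul, map_mul, hco]
    show _ = algebraMap C p.ResidueField d' * (algebraMap C p.ResidueField (s (P.cotangentComplex (mm a')) j) * co (j, a))
    ring
  have hdet : D.det ∉ p := fun hh => by
    have h1 : algebraMap C p.ResidueField D.det = 0 := Ideal.algebraMap_residueField_eq_zero.mpr hh
    rw [RingHom.map_det, show (algebraMap C p.ResidueField).mapMatrix D =
      Matrix.diagonal (fun _ : b => algebraMap C p.ResidueField d') by
      ext a a'
      rw [RingHom.mapMatrix_apply, Matrix.map_apply, hD, Matrix.diagonal_apply]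
      split <;> simp, Matrix.det_diagonal, Finset.prod_const] at h1
    exact hd0 (Ideal.algebraMap_residueField_eq_zero.mp (eq_zero_of_pow_eq_zero h1))
  -- Nakayama
  let U := Submodule.span C (Set.range mm)
  have hsub : Subsingleton (p.ResidueField ⊗[C] (P.Cotangent ⧸ U)) := by
    refine subsingleton_of_forall_eq 0 fun x => ?_
    let Q' := U.mkQ.baseChange p.ResidueField
    obtain ⟨y, rfl⟩ : ∃ y, Q' y = x := (LinearMap.lTensor_surjective p.ResidueField U.mkQ_surjective) x
    induction y with
    | zero => exact map_zero _
    | add a a' ha ha' => rw [map_add, ha, ha', add_zero]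
    | tmul r m =>
      rw [show r ⊗ₜ[C] m = r • ((1 : p.ResidueField) ⊗ₜ[C] m) by rw [TensorProduct.smul_tmul', smul_eq_mul, mul_one],
        map_smul]
      suffices hm : Q' ((1 : p.ResidueField) ⊗ₜ[C] m) = 0 by rw [hm, smul_zero]
      have hgm : g m ∈ Submodule.span p.ResidueField (b : Set V) := by rw [hbspan, hg]; trivial
      rw [← Subtype.range_coe (s := b), Submodule.mem_span_range_iff_exists_fun] at hgm
      obtain ⟨r', hr'⟩ := hgm
      obtain ⟨e, he⟩ := IsLocalization.exist_integer_multiples_of_finite (nonZeroDivisors (C ⧸ p)) r'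
      obtain ⟨e', he'⟩ := Ideal.Quotient.mk_surjective (e : C ⧸ p)
      choose q hq using he
      choose q' hq' using fun a => Ideal.Quotient.mk_surjective (q a)
      have he0 : algebraMap C p.ResidueField e' ≠ 0 := fun hh => nonZeroDivisors.ne_zero e.2
        (by rw [← he', Ideal.Quotient.eq_zero_iff_mem.mpr (Ideal.algebraMap_residueField_eq_zero.mp hh)])
      have hz : g (e' • m - ∑ a, q' a • mm a) = 0 := by
        rw [map_sub, map_smul, map_sum, sub_eq_zero, ← hr', Finset.smul_sum]
        refine Finset.sum_congr rfl fun a _ => ?_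
        rw [map_smul, hmm, ← algebraMap_smul p.ResidueField e', smul_smul, ← algebraMap_smul p.ResidueField (q' a)]
        congr 1
        rw [IsScalarTower.algebraMap_apply C (C ⧸ p) p.ResidueField, IsScalarTower.algebraMap_apply C (C ⧸ p) p.ResidueField,
          Ideal.Quotient.algebraMap_eq, hq', he', hq, Algebra.smul_def]
      have hz' := congrArg Q' (hgk _ hz)
      rw [map_zero, TensorProduct.tmul_sub, map_sub] at hz'
      have hU : Q' ((1 : p.ResidueField) ⊗ₜ[C] (∑ a, q' a • mm a)) = 0 := by
        rw [LinearMap.baseChange_tmul, Submodule.mkQ_apply, (Submodule.Quotient.mk_eq_zero U).mpr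
          (Submodule.sum_mem _ fun a _ => Submodule.smul_mem _ _ (Submodule.subset_span (Set.mem_range_self a))),
          TensorProduct.tmul_zero]
      rw [hU, sub_zero, TensorProduct.tmul_smul, ← algebraMap_smul p.ResidueField e', map_smul] at hz'
      exact (smul_eq_zero.mp hz').resolve_left he0
  have hsupp : (⟨p, inferInstance⟩ : PrimeSpectrum C) ∉ Module.support C (P.Cotangent ⧸ U) := fun hh => by
    have := (Module.mem_support_iff_nontrivial_residueField_tensorProduct _).mp hh
    exact not_nontrivial _ this
  obtain ⟨G, hG⟩ := (Module.Finite.fg_top : (⊤ : Submodule C P.Cotangent).FG)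
  choose rr hrr hrr' using fun x : G => (Module.notMem_support_iff'.mp hsupp) (U.mkQ (x : P.Cotangent))
  let gg := ∏ x : G, rr x
  have hgg : gg ∉ p := fun hh => by
    obtain ⟨x, -, hx⟩ := Ideal.IsPrime.prod_mem_iff.mp hh
    exact hrr x hx
  have hggU : ∀ m : P.Cotangent, gg • m ∈ U := fun m => by
    have hm : m ∈ Submodule.span C (G : Set P.Cotangent) := hG ▸ trivial
    induction hm using Submodule.span_induction with
    | mem x hx =>
      obtain ⟨r, hr⟩ := Finset.dvd_prod_of_mem rr (Finset.mem_univ (⟨x, hx⟩ : G))
      rw [show gg = rr ⟨x, hx⟩ * r from hr, mul_comm, mul_smul]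
      refine U.smul_mem _ ?_
      rw [← Submodule.Quotient.mk_eq_zero, Submodule.Quotient.mk_smul]
      exact hrr' ⟨x, hx⟩
    | zero => rw [smul_zero]; exact U.zero_mem
    | add x y _ _ hx hy => rw [smul_add]; exact U.add_mem hx hy
    | smul r x _ hx => rw [smul_comm]; exact U.smul_mem r hx
  let l' : P.CotangentSpace →ₗ[C] P.Cotangent :=
    (Fintype.linearCombination C mm) ∘ₗ (Matrix.mulVecLin D.adjugate) ∘ₗ φ
  have hl' : ∀ a', l' (P.cotangentComplex (mm a')) = D.det • mm a' := fun a' => by
    show Fintype.linearCombination C mm (D.adjugate.mulVec (fun a => D a a')) = _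
    have : D.adjugate.mulVec (fun a => D a a') = Pi.single a' D.det := by
      ext a
      have h1 : (D.adjugate * D) a a' = (D.det • (1 : Matrix b b C)) a a' := by rw [Matrix.adjugate_mul]
      rw [Matrix.mul_apply, Matrix.smul_apply, Matrix.one_apply] at h1
      rw [Matrix.mulVec, dotProduct, h1, Pi.single_apply]
      split <;> simp
    rw [this, Fintype.linearCombination_apply_single]
  have hlU : ∀ u ∈ U, l' (P.cotangentComplex u) = D.det • u := fun u hu => by
    induction hu using Submodule.span_induction with
    | mem x hx => obtain ⟨a, rfl⟩ := hx; exact hl' a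
    | zero => simp
    | add x y _ _ hx hy => rw [map_add, map_add, hx, hy, smul_add]
    | smul r x _ hx => rw [map_smul, map_smul, hx, smul_comm]
  refine ⟨D.det * gg, fun hh => ((Ideal.IsPrime.mem_or_mem inferInstance hh).elim hdet hgg), gg • l', fun m => ?_⟩
  rw [LinearMap.smul_apply, ← map_smul, ← map_smul, hlU _ (hggU m), mul_smul]

/-- A left inverse up to `f` gives formal smoothness after inverting `f`. -/
theorem formallySmooth_away [Algebra.FormallySmooth A P.Ring] {f : C}
    (l : P.CotangentSpace →ₗ[C] P.Cotangent) (hl : ∀ m, l (P.cotangentComplex m) = f • m) :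
    Algebra.FormallySmooth A (Localization.Away f) := by
  refine Algebra.FormallySmooth.of_comp_surjective fun E _ _ I hI u => ?_
  obtain ⟨w, hw⟩ := Algebra.FormallySmooth.exists_lift I ⟨2, hI⟩
    ((u.comp (IsScalarTower.toAlgHom A C (Localization.Away f))).comp (IsScalarTower.toAlgHom A P.Ring C))
  have hw' : ∀ x, Ideal.Quotient.mk I (w x) = u (algebraMap C _ (algebraMap P.Ring C x)) := fun x => AlgHom.congr_fun hw x
  have hII : ∀ x ∈ I, ∀ y ∈ I, x * y = 0 := fun x hx y hy => by
    have := Ideal.mul_mem_mul hx hy
    rwa [← pow_two, hI, Ideal.mem_bot] at this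
  obtain ⟨fl, hfl⟩ := P.algebraMap_surjective f
  have hunit : IsUnit (w fl) := by
    refine (IsNilpotent.isUnit_quotient_mk_iff (I := I) ⟨2, hI⟩).mp ?_
    rw [hw', hfl]
    exact (IsLocalization.Away.algebraMap_isUnit f).map u
  obtain ⟨r, hr⟩ := hunit.exists_left_inv
  -- the restriction of `w` to the kernel, on the cotangent module
  have hker : ∀ x : P.ker, w x ∈ I := fun x => by
    rw [← Ideal.Quotient.eq_zero_iff_mem, hw', show algebraMap P.Ring C x = 0 from x.2, map_zero, map_zero]
  have hsq : ∀ x ∈ P.ker ^ 2, w x = 0 := fun x hx => by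
    rw [pow_two] at hx
    refine Submodule.mul_induction_on hx (fun a ha b hb => ?_) (fun a b ha hb => by rw [map_add, ha, hb, add_zero])
    rw [map_mul]
    exact hII _ (hker ⟨a, ha⟩) _ (hker ⟨b, hb⟩)
  let H : P.Cotangent → E := fun m => w (Function.surjInv P.ker.toCotangent_surjective m.val : P.ker)
  have hH : ∀ x : P.ker, H (Algebra.Extension.Cotangent.mk x) = w x := fun x => by
    rw [← sub_eq_zero, ← map_sub]
    refine hsq _ ?_
    rw [← Ideal.toCotangent_eq]
    exact Function.surjInv_eq P.ker.toCotangent_surjective _
  have hHadd : ∀ a b, H (a + b) = H a + H b := fun a b => by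
    obtain ⟨x, rfl⟩ := Algebra.Extension.Cotangent.mk_surjective a
    obtain ⟨y, rfl⟩ := Algebra.Extension.Cotangent.mk_surjective b
    rw [← map_add, hH, hH, hH, Submodule.coe_add, map_add]
  have hHsmul : ∀ (c : P.Ring) a, H (algebraMap P.Ring C c • a) = w c * H a := fun c a => by
    obtain ⟨x, rfl⟩ := Algebra.Extension.Cotangent.mk_surjective a
    rw [algebraMap_smul, ← map_smul, hH, hH, Submodule.coe_smul, smul_eq_mul, map_mul]
  have hHmem : ∀ a, H a ∈ I := fun a => hker _
  let Δ : P.Ring → E := fun x => r * H (l ((1 : C) ⊗ₜ KaehlerDifferential.D A P.Ring x))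
  have hΔI : ∀ x, Δ x ∈ I := fun x => I.mul_mem_left _ (hHmem _)
  have hΔker : ∀ x : P.ker, Δ x = w x := fun x => by
    show r * H (l (P.cotangentComplex (Algebra.Extension.Cotangent.mk x))) = _
    rw [hl, ← hfl, hHsmul, hH, ← mul_assoc, hr, one_mul]
  let v : P.Ring →ₐ[A] E :=
    { toFun := fun x => w x - Δ x
      map_one' := by
        simp only [Δ, map_one, Derivation.map_one_eq_zero, TensorProduct.tmul_zero, map_zero]
        have : H 0 = 0 := by simpa using hHadd 0 0
        rw [this, mul_zero, sub_zero]
      map_mul' := fun x y => by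
        have h0 := hII _ (hΔI x) _ (hΔI y)
        have h1 : Δ (x * y) = w x * Δ y + w y * Δ x := by
          simp only [Δ]
          rw [Derivation.leibniz, TensorProduct.tmul_add, TensorProduct.tmul_smul, TensorProduct.tmul_smul,
            ← algebraMap_smul C x, ← algebraMap_smul C y, map_add, map_smul, map_smul, hHadd, hHsmul, hHsmul]
          ring
        rw [map_mul, h1]
        linear_combination -h0
      map_zero' := by
        simp only [Δ, map_zero, TensorProduct.tmul_zero]
        have : H 0 = 0 := by simpa using hHadd 0 0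
        rw [this, mul_zero, sub_zero]
      map_add' := fun x y => by
        have h1 : Δ (x + y) = Δ x + Δ y := by
          simp only [Δ, map_add, TensorProduct.tmul_add, hHadd]; ring
        rw [map_add, h1]; ring
      commutes' := fun a => by
        simp only [Δ, Derivation.map_algebraMap, TensorProduct.tmul_zero, map_zero, AlgHom.commutes]
        have : H 0 = 0 := by simpa using hHadd 0 0
        rw [this, mul_zero, sub_zero] }
  have hvker : ∀ x : P.Ring, x ∈ P.ker → v x = 0 := fun x hx => by
    show w x - Δ x = 0
    rw [hΔker ⟨x, hx⟩, sub_self]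
  have hvmk : ∀ x, Ideal.Quotient.mk I (v x) = u (algebraMap C _ (algebraMap P.Ring C x)) := fun x => by
    show Ideal.Quotient.mk I (w x - Δ x) = _
    rw [map_sub, Ideal.Quotient.eq_zero_iff_mem.mpr (hΔI x), sub_zero, hw']
  let vC : C →ₐ[A] E := AlgHom.liftOfSurjective (IsScalarTower.toAlgHom A P.Ring C) P.algebraMap_surjective v
    (fun x hx => hvker x hx)
  have hvC : ∀ x, vC (algebraMap P.Ring C x) = v x := fun x =>
    AlgHom.liftOfSurjective_apply (IsScalarTower.toAlgHom A P.Ring C) P.algebraMap_surjective v _ x
  have hvCu : IsUnit (vC f) := by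
    refine (IsNilpotent.isUnit_quotient_mk_iff (I := I) ⟨2, hI⟩).mp ?_
    rw [← hfl, hvC, hvmk, hfl]
    exact (IsLocalization.Away.algebraMap_isUnit f).map u
  refine ⟨IsLocalization.liftAlgHom (M := Submonoid.powers f) (f := vC) (fun y => ?_), ?_⟩
  · obtain ⟨_, n, rfl⟩ := y
    rw [map_pow]
    exact hvCu.pow n
  · apply AlgHom.coe_ringHom_injective
    refine IsLocalization.ringHom_ext (Submonoid.powers f) (RingHom.ext fun c => ?_)
    obtain ⟨x, rfl⟩ := P.algebraMap_surjective c
    show Ideal.Quotient.mk I (IsLocalization.liftAlgHom (M := Submonoid.powers f) (f := vC) _ (algebraMap C _ (algebraMap P.Ring C x))) = _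
    rw [IsLocalization.liftAlgHom_apply, IsLocalization.lift_eq]
    exact (congrArg (Ideal.Quotient.mk I) (hvC x)).trans (hvmk x)

end Groth.Agent.FSLocLib
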